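import Mathlib
import Cfsg.Agent.Lib.Helper5.PSL2Solv.Mat

set_option autoImplicit false

namespace Cfsg.Agent.Lib.Helper5.AutPSL2

open Matrix Subgroup
open Cfsg.Agent.Lib.Helper5.PSL2Solv

variable {F : Type*} [Field F]

/-- Upper unitriangular element. -/
def uu (a : F) : Matrix.SpecialLinearGroup (Fin 2) F := mk2 1 a 0 1 (by ring)

/-- Lower unitriangular element. -/
def vv (b : F) : Matrix.SpecialLinearGroup (Fin 2) F := mk2 1 0 b 1 (by ring)

/-- The central element `-1`. -/
def negOne (F : Type*) [Field F] : Matrix.SpecialLinearGroup (Fin 2) F :=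
  mk2 (-1) 0 0 (-1) (by ring)

theorem uu_add (a b : F) : uu (a + b) = uu a * uu b := by
  simp only [uu, mk2_mul, mk2_inj]
  refine ⟨by ring, by ring, by ring, by ring⟩

theorem vv_add (a b : F) : vv (a + b) = vv a * vv b := by
  simp only [vv, mk2_mul, mk2_inj]
  refine ⟨by ring, by ring, by ring, by ring⟩

theorem uu_zero : uu (0 : F) = 1 := by rw [uu, mk2_one]

theorem vv_zero : vv (0 : F) = 1 := by rw [vv, mk2_one]

theorem uu_inv (a : F) : (uu a)⁻¹ = uu (-a) := by
  rw [inv_eq_iff_mul_eq_one, ← uu_add, add_neg_cancel, uu_zero]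

theorem vv_inv (a : F) : (vv a)⁻¹ = vv (-a) := by
  rw [inv_eq_iff_mul_eq_one, ← vv_add, add_neg_cancel, vv_zero]

theorem uu_inj {a b : F} (h : uu a = uu b) : a = b := by
  simp only [uu, mk2_inj] at h
  exact h.2.1

theorem vv_inj {a b : F} (h : vv a = vv b) : a = b := by
  simp only [vv, mk2_inj] at h
  exact h.2.2.1

theorem uu_pow (a : F) (n : ℕ) : uu a ^ n = uu (n * a) := by
  induction n with
  | zero => simp [uu_zero]
  | succ n ih => rw [pow_succ, ih, ← uu_add]; congr 1; push_cast; ring

theorem vv_pow (a : F) (n : ℕ) : vv a ^ n = vv (n * a) := by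
  induction n with
  | zero => simp [vv_zero]
  | succ n ih => rw [pow_succ, ih, ← vv_add]; congr 1; push_cast; ring

theorem negOne_mul (a b c d : F) (h : a * d - b * c = 1) :
    negOne F * mk2 a b c d h = mk2 (-a) (-b) (-c) (-d) (by linear_combination h) := by
  simp only [negOne, mk2_mul, mk2_inj]
  refine ⟨by ring, by ring, by ring, by ring⟩

theorem negOne_sq : negOne F * negOne F = 1 := by
  simp only [negOne, mk2_mul, mk2_one, mk2_inj]
  refine ⟨by ring, by ring, by ring, by ring⟩

theorem mem_center_iff' (g : Matrix.SpecialLinearGroup (Fin 2) F) :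
    g ∈ Subgroup.center (Matrix.SpecialLinearGroup (Fin 2) F) ↔ g = 1 ∨ g = negOne F := by
  rw [Matrix.SpecialLinearGroup.mem_center_iff]
  constructor
  · rintro ⟨r, hr, hg⟩
    rw [Fintype.card_fin] at hr
    have h1 : (r - 1) * (r + 1) = 0 := by linear_combination hr
    rcases mul_eq_zero.1 h1 with h | h
    · left
      have hr1 : r = 1 := by linear_combination h
      subst hr1
      apply Matrix.SpecialLinearGroup.ext
      intro i j
      rw [← hg]
      simp
    · right
      have hr1 : r = -1 := by linear_combination h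
      subst hr1
      apply Matrix.SpecialLinearGroup.ext
      intro i j
      rw [← hg]
      fin_cases i <;> fin_cases j <;> simp [negOne, mk2]
  · rintro (rfl | rfl)
    · exact ⟨1, by simp, by simp⟩
    · refine ⟨-1, by simp, ?_⟩
      ext i j
      fin_cases i <;> fin_cases j <;> simp [negOne, mk2]

theorem negOne_mem_center : negOne F ∈ Subgroup.center (Matrix.SpecialLinearGroup (Fin 2) F) :=
  (mem_center_iff' _).2 (Or.inr rfl)

/-- The quotient map `SL₂(F) → PSL₂(F)`. -/
noncomputable def pr (F : Type*) [Field F] :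
    Matrix.SpecialLinearGroup (Fin 2) F →* Matrix.ProjectiveSpecialLinearGroup (Fin 2) F :=
  QuotientGroup.mk' (Subgroup.center (Matrix.SpecialLinearGroup (Fin 2) F))

theorem pr_surjective : Function.Surjective (pr F) := QuotientGroup.mk'_surjective _

theorem pr_eq_iff (g g' : Matrix.SpecialLinearGroup (Fin 2) F) :
    pr F g = pr F g' ↔ g' = g ∨ g' = negOne F * g := by
  rw [pr, QuotientGroup.mk'_apply, QuotientGroup.mk'_apply, QuotientGroup.eq, mem_center_iff']
  constructor
  · rintro (h | h)
    · left
      have := congrArg (fun z => g * z) h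
      simpa using this
    · right
      have := congrArg (fun z => g * z) h
      simp only [mul_inv_cancel_left] at this
      rw [this]
      exact ((Subgroup.mem_center_iff.1 negOne_mem_center) g)
  · rintro (rfl | rfl)
    · left; simp
    · right
      rw [← (Subgroup.mem_center_iff.1 negOne_mem_center) g, inv_mul_cancel_left]

theorem pr_eq_one_iff (g : Matrix.SpecialLinearGroup (Fin 2) F) :
    pr F g = 1 ↔ g = 1 ∨ g = negOne F := by
  rw [← map_one (pr F), pr_eq_iff]
  constructor
  · rintro (h | h)
    · left; exact h.symm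
    · right
      have := congrArg (fun z => negOne F * z) h
      simp only [mul_one, ← mul_assoc, negOne_sq, one_mul] at this
      exact this.symm
  · rintro (rfl | rfl)
    · left; rfl
    · right; rw [negOne_sq]

theorem pr_negOne : pr F (negOne F) = 1 := (pr_eq_one_iff _).2 (Or.inr rfl)

/-- `SL₂(F)` is generated by the elementary matrices. -/
theorem mem_closure_uu_vv (g : Matrix.SpecialLinearGroup (Fin 2) F) :
    g ∈ Subgroup.closure (Set.range (uu (F := F)) ∪ Set.range (vv (F := F))) := by
  obtain ⟨a, b, c, d, h, rfl⟩ := exists_mk2 g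
  have hu : ∀ x : F, uu x ∈ Subgroup.closure (Set.range (uu (F := F)) ∪ Set.range (vv (F := F))) :=
    fun x => Subgroup.subset_closure (Or.inl ⟨x, rfl⟩)
  have hv : ∀ x : F, vv x ∈ Subgroup.closure (Set.range (uu (F := F)) ∪ Set.range (vv (F := F))) :=
    fun x => Subgroup.subset_closure (Or.inr ⟨x, rfl⟩)
  have key : ∀ (a b c d : F) (h : a * d - b * c = 1), c ≠ 0 →
      mk2 a b c d h ∈ Subgroup.closure (Set.range (uu (F := F)) ∪ Set.range (vv (F := F))) := by
    intro a b c d h hc
    have e : mk2 a b c d h = uu ((a - 1) / c) * vv c * uu ((d - 1) / c) := by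
      simp only [uu, vv, mk2_mul, mk2_inj]
      refine ⟨?_, ?_, ?_, ?_⟩
      · field_simp; ring
      · field_simp; linear_combination (-1 : F) * h
      · ring
      · field_simp; ring
    rw [e]
    exact mul_mem (mul_mem (hu _) (hv _)) (hu _)
  by_cases hc : c = 0
  · subst hc
    have ha : a ≠ 0 := by
      rintro rfl
      rw [zero_mul, mul_zero, sub_zero] at h
      exact zero_ne_one h
    have e : mk2 a b 0 d h = mk2 a b 0 d h * vv 1 * vv (-1) := by
      rw [mul_assoc, ← vv_add, add_neg_cancel, vv_zero, mul_one]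
    rw [e]
    refine mul_mem ?_ (hv _)
    simp only [vv, mk2_mul]
    apply key
    intro h0
    have hd : d = 0 := by linear_combination h0
    subst hd
    rw [mul_zero, mul_zero, sub_zero] at h
    exact zero_ne_one h
  · exact key a b c d h hc

end Cfsg.Agent.Lib.Helper5.AutPSL2
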