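import Mathlib
import Cfsg.Agent.Lib.Helper5.AutPSL2.Basic

set_option autoImplicit false

namespace Cfsg.Agent.Lib.Helper5.AutPSL2

open Matrix Subgroup
open Cfsg.Agent.Lib.Helper5.PSL2Solv

variable {F : Type*} [Field F]

/-- Cayley–Hamilton for `2 × 2` matrices. -/
theorem sq_fin_two (K : Matrix (Fin 2) (Fin 2) F) :
    K * K = (K 0 0 + K 1 1) • K - (K 0 0 * K 1 1 - K 0 1 * K 1 0) • (1 : Matrix (Fin 2) (Fin 2) F) := by
  ext i j
  fin_cases i <;> fin_cases j <;>
    simp [Matrix.mul_apply, Fin.sum_univ_two] <;> ring

/-- A nilpotent `2 × 2` matrix has zero trace and determinant. -/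
theorem trace_det_of_nilpotent (K : Matrix (Fin 2) (Fin 2) F) (n : ℕ) (hK : K ^ n = 0) :
    K 0 0 + K 1 1 = 0 ∧ K 0 0 * K 1 1 - K 0 1 * K 1 0 = 0 := by
  have hdet : K 0 0 * K 1 1 - K 0 1 * K 1 0 = 0 := by
    have h1 : (K ^ n).det = 0 := by rw [hK]; simp
    rw [Matrix.det_pow] at h1
    by_cases hn : n = 0
    · subst hn
      rw [pow_zero] at hK
      exfalso
      have := congrFun (congrFun hK 0) 0
      simp at this
    · have h2 := (pow_eq_zero_iff hn).1 h1
      rw [Matrix.det_fin_two] at h2
      exact h2
  refine ⟨?_, hdet⟩
  by_contra hτ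
  have hsq : K * K = (K 0 0 + K 1 1) • K := by
    rw [sq_fin_two, hdet, zero_smul, sub_zero]
  have hpow : ∀ m : ℕ, K ^ (m + 1) = (K 0 0 + K 1 1) ^ m • K := by
    intro m
    induction m with
    | zero => simp
    | succ m ih =>
      rw [pow_succ, ih, Matrix.smul_mul, hsq, smul_smul, pow_succ]
  have hK0 : K = 0 := by
    by_cases hn : n = 0
    · subst hn
      rw [pow_zero] at hK
      exfalso
      have := congrFun (congrFun hK 0) 0
      simp at this
    · obtain ⟨m, rfl⟩ := Nat.exists_eq_succ_of_ne_zero hn
      rw [hpow] at hK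
      rcases smul_eq_zero.1 hK with h | h
      · exact absurd (pow_eq_zero_iff (n := m) (by
          rintro rfl
          rw [pow_zero] at h
          exact one_ne_zero h) |>.1 h) hτ
      · exact h
  apply hτ
  rw [hK0]
  simp

theorem trace_of_pow_char (p : ℕ) [Fact p.Prime] [CharP F p] (M : Matrix (Fin 2) (Fin 2) F) (ε : F)
    (hε : ε ^ p = ε) (hM : M ^ p = ε • (1 : Matrix (Fin 2) (Fin 2) F)) :
    M 0 0 + M 1 1 = 2 * ε := by
  have hc : Commute M (ε • (1 : Matrix (Fin 2) (Fin 2) F)) := by
    show M * (ε • 1) = (ε • 1) * M
    simp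
  have h1 : (M - ε • (1 : Matrix (Fin 2) (Fin 2) F)) ^ p = 0 := by
    rw [sub_pow_char_of_commute p hc, hM, smul_pow, one_pow, hε, sub_self]
  have h2 := (trace_det_of_nilpotent _ p h1).1
  simp only [Matrix.sub_apply, Matrix.smul_apply, Matrix.one_apply_eq, smul_eq_mul, mul_one] at h2
  linear_combination h2

theorem coe_negOne : ((negOne F : Matrix.SpecialLinearGroup (Fin 2) F) :
    Matrix (Fin 2) (Fin 2) F) = -1 := by
  ext i j
  fin_cases i <;> fin_cases j <;> simp [negOne, mk2]

/-- An element of `SL₂` whose `p`-th power is central is unipotent up to sign. -/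
theorem unip_of_pow (p : ℕ) [Fact p.Prime] [CharP F p] (g : Matrix.SpecialLinearGroup (Fin 2) F)
    (hg : g ^ p = 1 ∨ g ^ p = negOne F) :
    ∃ g' : Matrix.SpecialLinearGroup (Fin 2) F, (g' = g ∨ g' = negOne F * g) ∧
      (g' : Matrix (Fin 2) (Fin 2) F) 0 0 + (g' : Matrix (Fin 2) (Fin 2) F) 1 1 = 2 := by
  rcases hg with hg | hg
  · refine ⟨g, Or.inl rfl, ?_⟩
    have hM : (g : Matrix (Fin 2) (Fin 2) F) ^ p = (1 : F) • (1 : Matrix (Fin 2) (Fin 2) F) := by
      rw [← Matrix.SpecialLinearGroup.coe_pow, hg, one_smul]; rfl
    have := trace_of_pow_char p _ 1 (one_pow p) hM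
    rw [this, mul_one]
  · refine ⟨negOne F * g, Or.inr rfl, ?_⟩
    have hM : (g : Matrix (Fin 2) (Fin 2) F) ^ p = (-1 : F) • (1 : Matrix (Fin 2) (Fin 2) F) := by
      rw [← Matrix.SpecialLinearGroup.coe_pow, hg, coe_negOne]; simp
    have hε : (-1 : F) ^ p = -1 := neg_one_pow_char F p
    have := trace_of_pow_char p _ (-1) hε hM
    obtain ⟨a, b, c, d, h, rfl⟩ := exists_mk2 g
    rw [negOne_mul]
    simp only [mk2_00, mk2_11] at this ⊢
    linear_combination (-1 : F) * this

/-- Jordan normal form of a nontrivial unipotent element, as an intertwining relation. -/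
theorem jordan_rel {a b c d : F} (h : a * d - b * c = 1) (htr : a + d = 2)
    (hne : mk2 a b c d h ≠ 1) :
    ∃ x y z w : F, x * w - y * z ≠ 0 ∧
      x * a + y * c = x + z ∧ x * b + y * d = y + w ∧ z * a + w * c = z ∧ z * b + w * d = w := by
  by_cases hc : c = 0
  · subst hc
    have ha : a = 1 := by
      have h1 : (a - 1) * (a - 1) = 0 := by
        have hd : d = 2 - a := by linear_combination htr
        subst hd
        linear_combination (-1 : F) * h
      have := mul_self_eq_zero.1 h1
      linear_combination this
    subst ha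
    have hd : d = 1 := by linear_combination htr
    subst hd
    have hb : b ≠ 0 := by
      rintro rfl
      apply hne
      rw [mk2_one]
    refine ⟨1, 0, 0, b, ?_, by ring, by ring, by ring, by ring⟩
    rw [one_mul, mul_zero, sub_zero]
    exact hb
  · refine ⟨0, 1, c, d - 1, ?_, by ring, by ring, ?_, ?_⟩
    · rw [zero_mul, one_mul, zero_sub]
      exact neg_ne_zero.2 hc
    · have hd : d = 2 - a := by linear_combination htr
      subst hd
      ring
    · have hd : d = 2 - a := by linear_combination htr
      subst hd
      linear_combination (-1 : F) * h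

/-- Centralizer (up to sign) of the standard transvection. -/
theorem cent_uu_one (g : Matrix.SpecialLinearGroup (Fin 2) F)
    (hg : g * uu 1 = uu 1 * g ∨ g * uu 1 = negOne F * (uu 1 * g)) :
    ∃ a : F, g = uu a ∨ g = negOne F * uu a := by
  obtain ⟨a, b, c, d, h, rfl⟩ := exists_mk2 g
  rcases hg with hg | hg
  · simp only [uu, mk2_mul, mk2_inj] at hg
    obtain ⟨e1, e2, e3, e4⟩ := hg
    have hc : c = 0 := by linear_combination (-1 : F) * e1
    subst hc
    have hd : d = a := by linear_combination (-1 : F) * e2
    subst hd
    have h1 : (d - 1) * (d + 1) = 0 := by linear_combination h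
    rcases mul_eq_zero.1 h1 with h2 | h2
    · have : d = 1 := by linear_combination h2
      subst this
      exact ⟨b, Or.inl rfl⟩
    · have : d = -1 := by linear_combination h2
      subst this
      refine ⟨-b, Or.inr ?_⟩
      show mk2 (-1) b 0 (-1) h = negOne F * mk2 1 (-b) 0 1 _
      rw [negOne_mul, mk2_inj]
      refine ⟨by ring, by ring, by ring, by ring⟩
  · simp only [uu, negOne_mul, mk2_mul, mk2_inj] at hg
    obtain ⟨e1, e2, e3, e4⟩ := hg
    -- here `a = -(a + c)`, `c = -c`, ... force `2 = 0` or a contradiction
    by_cases h2 : (2 : F) = 0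
    · -- characteristic two: `-1 = 1`
      have hneg : ∀ x : F, -x = x := by
        intro x
        linear_combination (-x) * h2
      have hc : c = 0 := by
        have := e1
        rw [hneg] at this
        linear_combination (-1 : F) * this
      subst hc
      have hd : d = a := by
        have := e2
        rw [hneg] at this
        linear_combination (-1 : F) * this
      subst hd
      have h1 : (d - 1) * (d + 1) = 0 := by linear_combination h
      have hd1 : d = 1 := by
        rcases mul_eq_zero.1 h1 with h3 | h3
        · linear_combination h3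
        · linear_combination h3 - h2
      subst hd1
      exact ⟨b, Or.inl rfl⟩
    · exfalso
      have hc : c = 0 := by
        have : (2 : F) * c = 0 := by linear_combination e3
        exact (mul_eq_zero.1 this).resolve_left h2
      subst hc
      have ha : a = 0 := by
        have : (2 : F) * a = 0 := by linear_combination e1
        exact (mul_eq_zero.1 this).resolve_left h2
      subst ha
      rw [zero_mul, mul_zero, sub_zero] at h
      exact zero_ne_one h

/-- Centralizer (up to sign) of a nontrivial lower unitriangular element. -/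
theorem cent_vv (b₀ : F) (hb₀ : b₀ ≠ 0) (g : Matrix.SpecialLinearGroup (Fin 2) F)
    (hg : g * vv b₀ = vv b₀ * g ∨ g * vv b₀ = negOne F * (vv b₀ * g)) :
    ∃ b : F, g = vv b ∨ g = negOne F * vv b := by
  obtain ⟨a, b, c, d, h, rfl⟩ := exists_mk2 g
  rcases hg with hg | hg
  · simp only [vv, mk2_mul, mk2_inj] at hg
    obtain ⟨e1, e2, e3, e4⟩ := hg
    have hb : b = 0 := by
      have : b₀ * b = 0 := by linear_combination e1
      exact (mul_eq_zero.1 this).resolve_left hb₀
    subst hb
    have hd : d = a := by
      have : b₀ * (d - a) = 0 := by linear_combination e3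
      have := (mul_eq_zero.1 this).resolve_left hb₀
      linear_combination this
    subst hd
    have h1 : (d - 1) * (d + 1) = 0 := by linear_combination h
    rcases mul_eq_zero.1 h1 with h2 | h2
    · have : d = 1 := by linear_combination h2
      subst this
      exact ⟨c, Or.inl rfl⟩
    · have : d = -1 := by linear_combination h2
      subst this
      refine ⟨-c, Or.inr ?_⟩
      show mk2 (-1) 0 c (-1) h = negOne F * mk2 1 0 (-c) 1 _
      rw [negOne_mul, mk2_inj]
      refine ⟨by ring, by ring, by ring, by ring⟩
  · simp only [vv, negOne_mul, mk2_mul, mk2_inj] at hg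
    obtain ⟨e1, e2, e3, e4⟩ := hg
    by_cases h2 : (2 : F) = 0
    · have hneg : ∀ x : F, -x = x := by
        intro x
        linear_combination (-x) * h2
      have hb : b = 0 := by
        have := e1
        rw [hneg] at this
        have : b₀ * b = 0 := by linear_combination this
        exact (mul_eq_zero.1 this).resolve_left hb₀
      subst hb
      have hd : d = a := by
        have := e3
        rw [hneg] at this
        have : b₀ * (d - a) = 0 := by linear_combination this
        have := (mul_eq_zero.1 this).resolve_left hb₀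
        linear_combination this
      subst hd
      have h1 : (d - 1) * (d + 1) = 0 := by linear_combination h
      have hd1 : d = 1 := by
        rcases mul_eq_zero.1 h1 with h3 | h3
        · linear_combination h3
        · linear_combination h3 - h2
      subst hd1
      exact ⟨c, Or.inl rfl⟩
    · exfalso
      have hb : b = 0 := by
        have : (2 : F) * b = 0 := by linear_combination e2
        exact (mul_eq_zero.1 this).resolve_left h2
      subst hb
      have hd : d = 0 := by
        have : (2 : F) * d = 0 := by linear_combination e4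
        exact (mul_eq_zero.1 this).resolve_left h2
      subst hd
      rw [mul_zero, zero_mul, sub_zero] at h
      exact zero_ne_one h

end Cfsg.Agent.Lib.Helper5.AutPSL2
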