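import Mathlib
import Cfsg.Agent.Lib.Helper5.AutPSL2.Unip

set_option autoImplicit false

namespace Cfsg.Agent.Lib.Helper5.AutPSL2

open Matrix Subgroup
open Cfsg.Agent.Lib.Helper5.PSL2Solv

variable {F : Type*} [Field F]

theorem center_map_eq (e : Matrix.SpecialLinearGroup (Fin 2) F ≃* Matrix.SpecialLinearGroup (Fin 2) F) :
    (Subgroup.center (Matrix.SpecialLinearGroup (Fin 2) F)).map e.toMonoidHom =
      Subgroup.center (Matrix.SpecialLinearGroup (Fin 2) F) :=
  (Subgroup.characteristic_iff_map_eq.1 inferInstance) e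

/-- Automorphisms of `SL₂(F)` descend to `PSL₂(F)`. -/
noncomputable def descend (F : Type*) [Field F] :
    MulAut (Matrix.SpecialLinearGroup (Fin 2) F) →*
      MulAut (Matrix.ProjectiveSpecialLinearGroup (Fin 2) F) where
  toFun e := QuotientGroup.congr _ _ e (center_map_eq e)
  map_one' := by
    ext x
    obtain ⟨g, rfl⟩ := QuotientGroup.mk_surjective x
    rfl
  map_mul' := by
    intro e₁ e₂
    ext x
    obtain ⟨g, rfl⟩ := QuotientGroup.mk_surjective x
    rfl

theorem descend_pr (e : MulAut (Matrix.SpecialLinearGroup (Fin 2) F))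
    (g : Matrix.SpecialLinearGroup (Fin 2) F) : descend F e (pr F g) = pr F (e g) := rfl

/-- Conjugation by an element of `GL₂(F)` as an automorphism of `SL₂(F)`. -/
def glConj (F : Type*) [Field F] :
    GL (Fin 2) F →* MulAut (Matrix.SpecialLinearGroup (Fin 2) F) where
  toFun A :=
    { toFun := fun g => ⟨(A : Matrix (Fin 2) (Fin 2) F) * g * ((A⁻¹ : GL (Fin 2) F) :
          Matrix (Fin 2) (Fin 2) F), by
        rw [Matrix.det_mul, Matrix.det_mul, g.det_coe, mul_one, ← Matrix.det_mul]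
        have : (A : Matrix (Fin 2) (Fin 2) F) * ((A⁻¹ : GL (Fin 2) F) :
            Matrix (Fin 2) (Fin 2) F) = 1 := by
          rw [← Units.val_mul, mul_inv_cancel]; rfl
        rw [this, Matrix.det_one]⟩
      invFun := fun g => ⟨((A⁻¹ : GL (Fin 2) F) : Matrix (Fin 2) (Fin 2) F) * g *
          (A : Matrix (Fin 2) (Fin 2) F), by
        rw [Matrix.det_mul, Matrix.det_mul, g.det_coe, mul_one, ← Matrix.det_mul]
        have : ((A⁻¹ : GL (Fin 2) F) : Matrix (Fin 2) (Fin 2) F) *
            (A : Matrix (Fin 2) (Fin 2) F) = 1 := by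
          rw [← Units.val_mul, inv_mul_cancel]; rfl
        rw [this, Matrix.det_one]⟩
      left_inv := by
        intro g
        apply Subtype.ext
        have h1 : ((A⁻¹ : GL (Fin 2) F) : Matrix (Fin 2) (Fin 2) F) *
            (A : Matrix (Fin 2) (Fin 2) F) = 1 := by
          rw [← Units.val_mul, inv_mul_cancel]; rfl
        show ((A⁻¹ : GL (Fin 2) F) : Matrix (Fin 2) (Fin 2) F) *
          ((A : Matrix (Fin 2) (Fin 2) F) * g * ((A⁻¹ : GL (Fin 2) F) :
          Matrix (Fin 2) (Fin 2) F)) * (A : Matrix (Fin 2) (Fin 2) F) = g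
        rw [Matrix.mul_assoc, Matrix.mul_assoc, h1, Matrix.mul_one, ← Matrix.mul_assoc, h1,
          Matrix.one_mul]
      right_inv := by
        intro g
        apply Subtype.ext
        have h1 : (A : Matrix (Fin 2) (Fin 2) F) * ((A⁻¹ : GL (Fin 2) F) :
            Matrix (Fin 2) (Fin 2) F) = 1 := by
          rw [← Units.val_mul, mul_inv_cancel]; rfl
        show (A : Matrix (Fin 2) (Fin 2) F) *
          (((A⁻¹ : GL (Fin 2) F) : Matrix (Fin 2) (Fin 2) F) * g *
          (A : Matrix (Fin 2) (Fin 2) F)) * ((A⁻¹ : GL (Fin 2) F) :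
          Matrix (Fin 2) (Fin 2) F) = g
        rw [Matrix.mul_assoc, Matrix.mul_assoc, h1, Matrix.mul_one, ← Matrix.mul_assoc, h1,
          Matrix.one_mul]
      map_mul' := by
        intro g h
        apply Subtype.ext
        have h1 : ((A⁻¹ : GL (Fin 2) F) : Matrix (Fin 2) (Fin 2) F) *
            (A : Matrix (Fin 2) (Fin 2) F) = 1 := by
          rw [← Units.val_mul, inv_mul_cancel]; rfl
        show (A : Matrix (Fin 2) (Fin 2) F) * ((g : Matrix (Fin 2) (Fin 2) F) * h) *
          ((A⁻¹ : GL (Fin 2) F) : Matrix (Fin 2) (Fin 2) F) =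
          ((A : Matrix (Fin 2) (Fin 2) F) * g * ((A⁻¹ : GL (Fin 2) F) :
          Matrix (Fin 2) (Fin 2) F)) * ((A : Matrix (Fin 2) (Fin 2) F) * h *
          ((A⁻¹ : GL (Fin 2) F) : Matrix (Fin 2) (Fin 2) F))
        calc (A : Matrix (Fin 2) (Fin 2) F) * ((g : Matrix (Fin 2) (Fin 2) F) * h) *
            ((A⁻¹ : GL (Fin 2) F) : Matrix (Fin 2) (Fin 2) F)
            = (A : Matrix (Fin 2) (Fin 2) F) * g * (1 * (h *
              ((A⁻¹ : GL (Fin 2) F) : Matrix (Fin 2) (Fin 2) F))) := by
              rw [Matrix.one_mul]; simp only [Matrix.mul_assoc]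
          _ = _ := by rw [← h1]; simp only [Matrix.mul_assoc] }
  map_one' := by
    apply MulEquiv.ext
    intro g
    apply Subtype.ext
    show ((1 : GL (Fin 2) F) : Matrix (Fin 2) (Fin 2) F) * g *
      (((1 : GL (Fin 2) F)⁻¹ : GL (Fin 2) F) : Matrix (Fin 2) (Fin 2) F) = g
    simp
  map_mul' := by
    intro A B
    apply MulEquiv.ext
    intro g
    apply Subtype.ext
    show ((A * B : GL (Fin 2) F) : Matrix (Fin 2) (Fin 2) F) * g *
      (((A * B)⁻¹ : GL (Fin 2) F) : Matrix (Fin 2) (Fin 2) F) =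
      (A : Matrix (Fin 2) (Fin 2) F) * ((B : Matrix (Fin 2) (Fin 2) F) * g *
      ((B⁻¹ : GL (Fin 2) F) : Matrix (Fin 2) (Fin 2) F)) *
      ((A⁻¹ : GL (Fin 2) F) : Matrix (Fin 2) (Fin 2) F)
    rw [_root_.mul_inv_rev, Units.val_mul, Units.val_mul]
    simp only [Matrix.mul_assoc]

theorem glConj_coe (A : GL (Fin 2) F) (g : Matrix.SpecialLinearGroup (Fin 2) F) :
    ((glConj F A g : Matrix.SpecialLinearGroup (Fin 2) F) : Matrix (Fin 2) (Fin 2) F) =
      (A : Matrix (Fin 2) (Fin 2) F) * g * ((A⁻¹ : GL (Fin 2) F) : Matrix (Fin 2) (Fin 2) F) := rfl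

/-- Intertwining criterion for `glConj`. -/
theorem glConj_eq_of_mul_eq (A : GL (Fin 2) F) (g g' : Matrix.SpecialLinearGroup (Fin 2) F)
    (h : (A : Matrix (Fin 2) (Fin 2) F) * g = (g' : Matrix (Fin 2) (Fin 2) F) * A) :
    glConj F A g = g' := by
  apply Subtype.ext
  rw [glConj_coe, h, Matrix.mul_assoc]
  have h1 : (A : Matrix (Fin 2) (Fin 2) F) * ((A⁻¹ : GL (Fin 2) F) :
      Matrix (Fin 2) (Fin 2) F) = 1 := by
    rw [← Units.val_mul, mul_inv_cancel]; rfl
  rw [h1, Matrix.mul_one]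

/-- Conjugation by an element of `GL₂(F)` on `PSL₂(F)`. -/
noncomputable def cG (F : Type*) [Field F] :
    GL (Fin 2) F →* MulAut (Matrix.ProjectiveSpecialLinearGroup (Fin 2) F) :=
  (descend F).comp (glConj F)

theorem cG_pr (A : GL (Fin 2) F) (g : Matrix.SpecialLinearGroup (Fin 2) F) :
    cG F A (pr F g) = pr F (glConj F A g) := rfl

/-- Field automorphisms acting entrywise on `SL₂(F)`. -/
def fieldAct (F : Type*) [Field F] :
    RingAut F →* MulAut (Matrix.SpecialLinearGroup (Fin 2) F) where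
  toFun σ :=
    { toFun := Matrix.SpecialLinearGroup.map (σ : F →+* F)
      invFun := Matrix.SpecialLinearGroup.map ((σ.symm : F ≃+* F) : F →+* F)
      left_inv := by
        intro g
        apply Matrix.SpecialLinearGroup.ext
        intro i j
        simp
      right_inv := by
        intro g
        apply Matrix.SpecialLinearGroup.ext
        intro i j
        simp
      map_mul' := map_mul _ }
  map_one' := by
    apply MulEquiv.ext
    intro g
    apply Matrix.SpecialLinearGroup.ext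
    intro i j
    rfl
  map_mul' := by
    intro σ τ
    apply MulEquiv.ext
    intro g
    apply Matrix.SpecialLinearGroup.ext
    intro i j
    rfl

theorem fieldAct_apply (σ : RingAut F) (g : Matrix.SpecialLinearGroup (Fin 2) F) (i j : Fin 2) :
    (fieldAct F σ g : Matrix (Fin 2) (Fin 2) F) i j = σ ((g : Matrix (Fin 2) (Fin 2) F) i j) :=
  rfl

theorem fieldAct_mk2 (σ : RingAut F) (a b c d : F) (h : a * d - b * c = 1) :
    fieldAct F σ (mk2 a b c d h) = mk2 (σ a) (σ b) (σ c) (σ d)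
      (by rw [← map_mul, ← map_mul, ← map_sub, h, map_one]) := by
  apply Matrix.SpecialLinearGroup.ext
  intro i j
  rw [fieldAct_apply]
  fin_cases i <;> fin_cases j <;> rfl

theorem fieldAct_uu (σ : RingAut F) (a : F) : fieldAct F σ (uu a) = uu (σ a) := by
  simp only [uu, fieldAct_mk2, map_one, map_zero]

theorem fieldAct_vv (σ : RingAut F) (a : F) : fieldAct F σ (vv a) = vv (σ a) := by
  simp only [vv, fieldAct_mk2, map_one, map_zero]

/-- Field automorphisms acting on `PSL₂(F)`. -/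
noncomputable def sigHat (F : Type*) [Field F] :
    RingAut F →* MulAut (Matrix.ProjectiveSpecialLinearGroup (Fin 2) F) :=
  (descend F).comp (fieldAct F)

theorem sigHat_pr (σ : RingAut F) (g : Matrix.SpecialLinearGroup (Fin 2) F) :
    sigHat F σ (pr F g) = pr F (fieldAct F σ g) := rfl

/-- A chosen lift to `SL₂(F)`. -/
noncomputable def liftP (x : Matrix.ProjectiveSpecialLinearGroup (Fin 2) F) :
    Matrix.SpecialLinearGroup (Fin 2) F := Classical.choose (pr_surjective x)

theorem pr_liftP (x : Matrix.ProjectiveSpecialLinearGroup (Fin 2) F) : pr F (liftP x) = x :=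
  Classical.choose_spec (pr_surjective x)

/-- The squared trace, a function on `PSL₂(F)`. -/
noncomputable def trSq (x : Matrix.ProjectiveSpecialLinearGroup (Fin 2) F) : F :=
  ((liftP x).1 0 0 + (liftP x).1 1 1) ^ 2

theorem trSq_pr (g : Matrix.SpecialLinearGroup (Fin 2) F) :
    trSq (pr F g) = ((g : Matrix (Fin 2) (Fin 2) F) 0 0 +
      (g : Matrix (Fin 2) (Fin 2) F) 1 1) ^ 2 := by
  have h := pr_liftP (pr F g)
  rw [trSq]
  generalize liftP (pr F g) = g' at h
  rw [pr_eq_iff] at h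
  obtain ⟨a, b, c, d, hd, rfl⟩ := exists_mk2 g'
  rcases h with h | h
  · rw [h]
  · rw [h, negOne_mul]
    show (a + d) ^ 2 = (-a + -d) ^ 2
    ring

theorem trSq_mk2 (a b c d : F) (h : a * d - b * c = 1) :
    trSq (pr F (mk2 a b c d h)) = (a + d) ^ 2 := by
  rw [trSq_pr, mk2_00, mk2_11]

theorem trSq_cG (A : GL (Fin 2) F) (x : Matrix.ProjectiveSpecialLinearGroup (Fin 2) F) :
    trSq (cG F A x) = trSq x := by
  obtain ⟨g, rfl⟩ := pr_surjective x
  rw [cG_pr, trSq_pr, trSq_pr]
  congr 1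
  have h1 : Matrix.trace ((glConj F A g : Matrix.SpecialLinearGroup (Fin 2) F) :
      Matrix (Fin 2) (Fin 2) F) = Matrix.trace (g : Matrix (Fin 2) (Fin 2) F) := by
    rw [glConj_coe, Matrix.trace_mul_cycle, ← Units.val_mul, inv_mul_cancel]
    simp
  rw [Matrix.trace_fin_two, Matrix.trace_fin_two] at h1
  exact h1

theorem trSq_sigHat (σ : RingAut F) (x : Matrix.ProjectiveSpecialLinearGroup (Fin 2) F) :
    trSq (sigHat F σ x) = σ (trSq x) := by
  obtain ⟨g, rfl⟩ := pr_surjective x
  rw [sigHat_pr, trSq_pr, trSq_pr, fieldAct_apply, fieldAct_apply, map_pow, map_add]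

theorem trSq_surj (t : F) : ∃ x : Matrix.ProjectiveSpecialLinearGroup (Fin 2) F, trSq x = t ^ 2 :=
  ⟨pr F (mk2 t (-1) 1 0 (by ring)), by rw [trSq_mk2, add_zero]⟩

end Cfsg.Agent.Lib.Helper5.AutPSL2
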