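import Mathlib
import Cfsg.Agent.Lib.Helper5.AutPSL2.Actions

set_option autoImplicit false

namespace Cfsg.Agent.Lib.Helper5.AutPSL2

open Matrix Subgroup
open Cfsg.Agent.Lib.Helper5.PSL2Solv

variable {F : Type*} [Field F]

theorem negOne_eq_one (h2 : (2 : F) = 0) : negOne F = 1 := by
  rw [negOne, mk2_one, mk2_inj]
  refine ⟨by linear_combination (-1 : F) * h2, rfl, rfl, by linear_combination (-1 : F) * h2⟩

theorem pr_uu_inj {a b : F} (h : pr F (uu a) = pr F (uu b)) : a = b := by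
  rw [pr_eq_iff] at h
  rcases h with h | h
  · exact (uu_inj h).symm
  · rw [uu, uu, negOne_mul, mk2_inj] at h
    obtain ⟨h1, h2, -, -⟩ := h
    linear_combination a * h1 - h2

theorem pr_vv_inj {a b : F} (h : pr F (vv a) = pr F (vv b)) : a = b := by
  rw [pr_eq_iff] at h
  rcases h with h | h
  · exact (vv_inj h).symm
  · rw [vv, vv, negOne_mul, mk2_inj] at h
    obtain ⟨h1, -, h2, -⟩ := h
    linear_combination a * h1 - h2

theorem pr_vv_ne_pr_uu {a b : F} (h : pr F (vv b) = pr F (uu a)) : b = 0 := by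
  rw [pr_eq_iff] at h
  rcases h with h | h
  · rw [uu, vv, mk2_inj] at h
    exact h.2.2.1.symm
  · rw [uu, vv, negOne_mul, mk2_inj] at h
    obtain ⟨-, -, h2, -⟩ := h
    linear_combination h2

theorem pr_uu_add (a b : F) : pr F (uu (a + b)) = pr F (uu a) * pr F (uu b) := by
  rw [uu_add, map_mul]

theorem pr_vv_add (a b : F) : pr F (vv (a + b)) = pr F (vv a) * pr F (vv b) := by
  rw [vv_add, map_mul]

theorem pr_negOne_mul (g : Matrix.SpecialLinearGroup (Fin 2) F) :
    pr F (negOne F * g) = pr F g := by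
  rw [map_mul, pr_negOne, one_mul]

/-- The centralizer of `pr (uu 1)`. -/
theorem cent_pr_uu_one (x : Matrix.ProjectiveSpecialLinearGroup (Fin 2) F)
    (hx : x * pr F (uu 1) = pr F (uu 1) * x) : ∃ a : F, x = pr F (uu a) := by
  obtain ⟨g, rfl⟩ := pr_surjective x
  rw [← map_mul, ← map_mul, eq_comm, pr_eq_iff] at hx
  obtain ⟨a, ha | ha⟩ := cent_uu_one g hx
  · exact ⟨a, by rw [ha]⟩
  · exact ⟨a, by rw [ha, pr_negOne_mul]⟩

/-- The centralizer of `pr (vv b₀)`. -/
theorem cent_pr_vv (b₀ : F) (hb₀ : b₀ ≠ 0)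
    (x : Matrix.ProjectiveSpecialLinearGroup (Fin 2) F)
    (hx : x * pr F (vv b₀) = pr F (vv b₀) * x) : ∃ b : F, x = pr F (vv b) := by
  obtain ⟨g, rfl⟩ := pr_surjective x
  rw [← map_mul, ← map_mul, eq_comm, pr_eq_iff] at hx
  obtain ⟨a, ha | ha⟩ := cent_vv b₀ hb₀ g hx
  · exact ⟨a, by rw [ha]⟩
  · exact ⟨a, by rw [ha, pr_negOne_mul]⟩

/-- Inner automorphisms are conjugations by elements of `GL₂`. -/
theorem conj_eq_cG (g : Matrix.SpecialLinearGroup (Fin 2) F) :
    MulAut.conj (pr F g) = cG F (Matrix.SpecialLinearGroup.toGL g) := by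
  apply MulEquiv.ext
  intro x
  obtain ⟨h, rfl⟩ := pr_surjective x
  rw [MulAut.conj_apply, cG_pr, ← map_inv, ← map_mul, ← map_mul]
  congr 1

theorem pr_uu_one_pow (p : ℕ) [CharP F p] : (pr F (uu 1)) ^ p = 1 := by
  rw [← map_pow, uu_pow, mul_one, CharP.cast_eq_zero, uu_zero, map_one]

theorem pr_vv_one_pow (p : ℕ) [CharP F p] : (pr F (vv 1)) ^ p = 1 := by
  rw [← map_pow, vv_pow, mul_one, CharP.cast_eq_zero, vv_zero, map_one]

theorem pr_uu_one_ne_one : pr F (uu 1) ≠ 1 := by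
  intro h
  have h' : pr F (uu (1 : F)) = pr F (uu 0) := by rw [h, uu_zero, map_one]
  exact one_ne_zero (pr_uu_inj h')

/-- A nontrivial element of `PSL₂(F)` of order `p` is `GL₂`-conjugate to `pr (uu 1)`. -/
theorem exists_cG_to_uu_one (p : ℕ) [Fact p.Prime] [CharP F p]
    (x : Matrix.ProjectiveSpecialLinearGroup (Fin 2) F) (hx : x ^ p = 1) (hx1 : x ≠ 1) :
    ∃ A : GL (Fin 2) F, cG F A x = pr F (uu 1) := by
  obtain ⟨g, rfl⟩ := pr_surjective x
  rw [← map_pow, pr_eq_one_iff] at hx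
  obtain ⟨g', hg', htr⟩ := unip_of_pow p g hx
  have hpr : pr F g' = pr F g := by
    rcases hg' with rfl | rfl
    · rfl
    · rw [pr_negOne_mul]
  rw [← hpr] at hx1 ⊢
  obtain ⟨a, b, c, d, h, rfl⟩ := exists_mk2 g'
  rw [mk2_00, mk2_11] at htr
  have hne : mk2 a b c d h ≠ 1 := by
    intro h1
    apply hx1
    rw [h1, map_one]
  obtain ⟨x, y, z, w, hdet, e1, e2, e3, e4⟩ := jordan_rel h htr hne
  have hdet' : (!![x, y; z, w] : Matrix (Fin 2) (Fin 2) F).det ≠ 0 := by
    rw [Matrix.det_fin_two_of]; exact hdet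
  refine ⟨Matrix.GeneralLinearGroup.mkOfDetNeZero _ hdet', ?_⟩
  rw [cG_pr]
  congr 1
  apply glConj_eq_of_mul_eq
  show !![x, y; z, w] * !![a, b; c, d] = !![1, 1; 0, 1] * !![x, y; z, w]
  rw [Matrix.mul_fin_two, Matrix.mul_fin_two]
  simp only [one_mul, zero_mul, zero_add, e1, e2, e3, e4]

/-- A unipotent-type element outside `Ū` is conjugate under `Ū` to some `pr (vv c)`. -/
theorem exists_conj_to_vv (p : ℕ) [Fact p.Prime] [CharP F p]
    (y : Matrix.ProjectiveSpecialLinearGroup (Fin 2) F) (hy : y ^ p = 1)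
    (hyU : ∀ a : F, y ≠ pr F (uu a)) :
    ∃ s c : F, c ≠ 0 ∧ MulAut.conj (pr F (uu s)) y = pr F (vv c) := by
  obtain ⟨g, rfl⟩ := pr_surjective y
  rw [← map_pow, pr_eq_one_iff] at hy
  obtain ⟨g', hg', htr⟩ := unip_of_pow p g hy
  have hpr : pr F g' = pr F g := by
    rcases hg' with rfl | rfl
    · rfl
    · rw [pr_negOne_mul]
  rw [← hpr] at hyU ⊢
  obtain ⟨a, b, c, d, h, rfl⟩ := exists_mk2 g'
  rw [mk2_00, mk2_11] at htr
  have hc : c ≠ 0 := by
    rintro rfl
    have ha : a = 1 := by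
      have : (a - 1) * (a - 1) = 0 := by linear_combination (-1 : F) * h + a * htr
      linear_combination sq_eq_zero2 this
    have hd : d = 1 := by linear_combination htr - ha
    subst ha hd
    exact hyU b rfl
  refine ⟨(1 - a) / c, c, hc, ?_⟩
  rw [MulAut.conj_apply, ← map_inv, ← map_mul, ← map_mul]
  congr 1
  rw [mul_inv_eq_iff_eq_mul]
  simp only [uu, vv, mk2_mul, mk2_inj]
  refine ⟨?_, ?_, ?_, ?_⟩
  · field_simp; ring
  · field_simp; linear_combination (-1 : F) * h + htr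
  · ring
  · field_simp; linear_combination htr

/-- The Weyl element relation in `SL₂(F)`. -/
theorem w_rel (t a : F) (ht : t ≠ 0) :
    uu t * vv (-t⁻¹) * uu t * uu a =
      vv (-(t⁻¹) ^ 2 * a) * (uu t * vv (-t⁻¹) * uu t) := by
  simp only [uu, vv, mk2_mul, mk2_inj]
  refine ⟨?_, ?_, ?_, ?_⟩
  · field_simp; ring
  · field_simp; ring
  · field_simp; ring
  · field_simp; ring

theorem alg_plus {s r b c : F} (hb : b ≠ 0)
    (h : vv c * (uu s * vv r * uu s) = uu s * vv r * uu s * uu b) :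
    1 + s * r = 0 ∧ r * b = c * s := by
  simp only [uu, vv, mk2_mul, mk2_inj] at h
  obtain ⟨-, e2, -, e4⟩ := h
  have h1 : (1 + s * r) * b = 0 := by linear_combination (-1 : F) * e2
  have h1' : 1 + s * r = 0 := (mul_eq_zero.1 h1).resolve_right hb
  refine ⟨h1', ?_⟩
  linear_combination (-1 : F) * e4 + c * s * h1'

theorem alg_rel {s r b c : F} (hb : b ≠ 0)
    (h : vv c * (uu s * vv r * uu s) = uu s * vv r * uu s * uu b ∨
      vv c * (uu s * vv r * uu s) = negOne F * (uu s * vv r * uu s * uu b)) :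
    1 + s * r = 0 ∧ r * b = c * s := by
  rcases h with h | h
  · exact alg_plus hb h
  · have h2 : (2 : F) = 0 := by
      have h' := h
      simp only [uu, vv, mk2_mul, negOne_mul, mk2_inj] at h'
      obtain ⟨e1, e2, -, -⟩ := h'
      have h4 : (4 : F) = 0 := by
        linear_combination (2 * (r * s + 1) + r * b) * e1 - 2 * r * e2
      have : (2 : F) * 2 = 0 := by linear_combination h4
      exact mul_self_eq_zero.1 this
    rw [negOne_eq_one h2, one_mul] at h
    exact alg_plus hb h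

/-- An automorphism acting on the root subgroups through functions `φ`, `χ` with `φ 1 = 1`
is induced by a field automorphism. -/
theorem aut_of_root_action [Finite F]
    (β : MulAut (Matrix.ProjectiveSpecialLinearGroup (Fin 2) F)) (φ χ : F → F)
    (hφ : ∀ a, β (pr F (uu a)) = pr F (uu (φ a)))
    (hχ : ∀ b, β (pr F (vv b)) = pr F (vv (χ b)))
    (h1 : φ 1 = 1) : ∃ σ : RingAut F, β = sigHat F σ := by
  have φadd : ∀ a b, φ (a + b) = φ a + φ b := by
    intro a b
    apply pr_uu_inj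
    rw [← hφ, pr_uu_add, map_mul, hφ, hφ, ← pr_uu_add]
  have χadd : ∀ a b, χ (a + b) = χ a + χ b := by
    intro a b
    apply pr_vv_inj
    rw [← hχ, pr_vv_add, map_mul, hχ, hχ, ← pr_vv_add]
  have φ0 : φ 0 = 0 := by
    have := φadd 0 0
    rw [add_zero] at this
    linear_combination (-1 : F) * this
  have χ0 : χ 0 = 0 := by
    have := χadd 0 0
    rw [add_zero] at this
    linear_combination (-1 : F) * this
  have χneg : ∀ a, χ (-a) = -χ a := by
    intro a
    have := χadd a (-a)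
    rw [add_neg_cancel, χ0] at this
    linear_combination (-1 : F) * this
  have φinj : Function.Injective φ := by
    intro a b hab
    apply pr_uu_inj
    apply β.injective
    rw [hφ, hφ, hab]
  have φne : ∀ a, a ≠ 0 → φ a ≠ 0 := fun a ha h => ha (φinj (h.trans φ0.symm))
  have key : ∀ t a, t ≠ 0 → a ≠ 0 →
      1 + φ t * χ (-t⁻¹) = 0 ∧ χ (-t⁻¹) * φ a = χ (-(t⁻¹) ^ 2 * a) * φ t := by
    intro t a ht ha
    have e := congrArg (fun g => β (pr F g)) (w_rel t a ht)
    simp only [map_mul, hφ, hχ] at e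
    simp only [← MonoidHom.map_mul] at e
    rw [pr_eq_iff] at e
    exact alg_rel (φne a ha) e
  have key2 : ∀ t a, t ≠ 0 → a ≠ 0 →
      φ t * χ t⁻¹ = 1 ∧ χ t⁻¹ * φ a = χ ((t⁻¹) ^ 2 * a) * φ t := by
    intro t a ht ha
    obtain ⟨k1, k2⟩ := key t a ht ha
    rw [χneg] at k1 k2
    rw [neg_mul ((t⁻¹) ^ 2) a, χneg] at k2
    constructor
    · linear_combination (-1 : F) * k1
    · linear_combination (-1 : F) * k2
  have χ1 : χ 1 = 1 := by
    have := (key2 1 1 one_ne_zero one_ne_zero).1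
    rw [inv_one, h1, one_mul] at this
    exact this
  have χφ : ∀ a, χ a = φ a := by
    intro a
    by_cases ha : a = 0
    · rw [ha, χ0, φ0]
    · have := (key2 1 a one_ne_zero ha).2
      rw [inv_one, χ1, h1, one_pow, one_mul, one_mul, mul_one] at this
      exact this.symm
  have key3 : ∀ t a, t ≠ 0 → a ≠ 0 →
      φ t * φ t⁻¹ = 1 ∧ φ t⁻¹ * φ a = φ ((t⁻¹) ^ 2 * a) * φ t := by
    intro t a ht ha
    have := key2 t a ht ha
    simpa only [χφ] using this
  have sqmul : ∀ t a, φ (t ^ 2 * a) = φ t ^ 2 * φ a := by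
    intro t a
    by_cases ht : t = 0
    · subst ht; simp [φ0]
    by_cases ha : a = 0
    · subst ha; simp [φ0]
    have k := key3 t⁻¹ a (inv_ne_zero ht) ha
    rw [inv_inv] at k
    obtain ⟨k1, k2⟩ := k
    linear_combination (-φ t) * k2 + (-φ (t ^ 2 * a)) * k1
  have sq : ∀ t, φ (t ^ 2) = φ t ^ 2 := by
    intro t
    have := sqmul t 1
    rwa [mul_one, h1, mul_one] at this
  have φmul : ∀ x y, φ (x * y) = φ x * φ y := by
    intro x y
    by_cases h2 : (2 : F) = 0
    · have inj : Function.Injective (fun t : F => t ^ 2) := by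
        intro u v huv
        have huv' : u ^ 2 = v ^ 2 := huv
        have : (u - v) ^ 2 = 0 := by linear_combination huv' - (u * v - v ^ 2) * h2
        have := pow_eq_zero_iff (two_ne_zero) |>.1 this
        linear_combination this
      obtain ⟨t, ht⟩ := (Finite.injective_iff_surjective.1 inj) x
      have ht' : t ^ 2 = x := ht
      rw [← ht', sqmul, sq]
    · have e1 := sq (x + y)
      rw [φadd] at e1
      have e2 : φ ((x + y) ^ 2) = φ (x ^ 2) + (φ (x * y) + φ (x * y)) + φ (y ^ 2) := by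
        rw [← φadd, ← φadd, ← φadd]; congr 1; ring
      rw [sq x, sq y] at e2
      have : 2 * (φ (x * y) - φ x * φ y) = 0 := by linear_combination e1 - e2
      rcases mul_eq_zero.1 this with h | h
      · exact absurd h h2
      · linear_combination h
  let σh : F →+* F :=
    { toFun := φ, map_one' := h1, map_mul' := φmul, map_zero' := φ0, map_add' := φadd }
  have σbij : Function.Bijective σh := Finite.injective_iff_bijective.1 φinj
  let σ : RingAut F := RingEquiv.ofBijective σh σbij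
  have hσ : ∀ a, σ a = φ a := fun a => rfl
  refine ⟨σ, ?_⟩
  have hgen : Subgroup.closure (Set.range (uu (F := F)) ∪ Set.range (vv (F := F))) = ⊤ := by
    rw [eq_top_iff]; intro g _; exact mem_closure_uu_vv g
  have : (β.toMonoidHom.comp (pr F)) = ((sigHat F σ).toMonoidHom.comp (pr F)) := by
    apply MonoidHom.eq_of_eqOn_dense hgen
    rintro g (⟨a, rfl⟩ | ⟨b, rfl⟩)
    · show β (pr F (uu a)) = sigHat F σ (pr F (uu a))
      rw [hφ, sigHat_pr, fieldAct_uu, hσ]
    · show β (pr F (vv b)) = sigHat F σ (pr F (vv b))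
      rw [hχ, sigHat_pr, fieldAct_vv, hσ, χφ]
  apply MulEquiv.ext
  intro x
  obtain ⟨g, rfl⟩ := pr_surjective x
  exact DFunLike.congr_fun this g

/-- Every automorphism of `PSL₂(F)`, `F` finite, is the composite of a conjugation by an element
of `GL₂(F)` and a field automorphism. -/
theorem aut_structure [Finite F] (p : ℕ) [Fact p.Prime] [CharP F p]
    (α : MulAut (Matrix.ProjectiveSpecialLinearGroup (Fin 2) F)) :
    ∃ (A : GL (Fin 2) F) (σ : RingAut F), α = cG F A * sigHat F σ := by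
  have hx1 : (α (pr F (uu 1))) ^ p = 1 := by rw [← map_pow, pr_uu_one_pow, map_one]
  have hx2 : α (pr F (uu 1)) ≠ 1 := by
    intro h
    apply pr_uu_one_ne_one (F := F)
    apply α.injective
    rw [h, map_one]
  obtain ⟨A₁, hA₁⟩ := exists_cG_to_uu_one p _ hx1 hx2
  have L2 : ∀ β : MulAut (Matrix.ProjectiveSpecialLinearGroup (Fin 2) F),
      β (pr F (uu 1)) = pr F (uu 1) → ∀ a, ∃ a', β (pr F (uu a)) = pr F (uu a') := by
    intro β hβ a
    apply cent_pr_uu_one
    have hc : pr F (uu a) * pr F (uu 1) = pr F (uu 1) * pr F (uu a) := by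
      rw [← pr_uu_add, ← pr_uu_add, add_comm]
    calc β (pr F (uu a)) * pr F (uu 1) = β (pr F (uu a)) * β (pr F (uu 1)) := by rw [hβ]
      _ = β (pr F (uu a) * pr F (uu 1)) := (map_mul β _ _).symm
      _ = β (pr F (uu 1) * pr F (uu a)) := by rw [hc]
      _ = β (pr F (uu 1)) * β (pr F (uu a)) := map_mul β _ _
      _ = pr F (uu 1) * β (pr F (uu a)) := by rw [hβ]
  obtain ⟨α₁, hα₁⟩ : ∃ α₁ : MulAut (Matrix.ProjectiveSpecialLinearGroup (Fin 2) F),
      α₁ = cG F A₁ * α := ⟨_, rfl⟩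
  have h1 : α₁ (pr F (uu 1)) = pr F (uu 1) := by rw [hα₁, MulAut.mul_apply, hA₁]
  have hy1 : (α₁ (pr F (vv 1))) ^ p = 1 := by rw [← map_pow, pr_vv_one_pow, map_one]
  have hy2 : ∀ a, α₁ (pr F (vv 1)) ≠ pr F (uu a) := by
    intro a h
    have hinv : α₁⁻¹ (pr F (uu 1)) = pr F (uu 1) := by
      rw [MulAut.inv_apply, MulEquiv.symm_apply_eq]; exact h1.symm
    obtain ⟨a', ha'⟩ := L2 α₁⁻¹ hinv a
    have : pr F (vv 1) = pr F (uu a') := by
      rw [← ha', ← h, MulAut.inv_apply, MulEquiv.symm_apply_apply]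
    exact one_ne_zero (pr_vv_ne_pr_uu this)
  obtain ⟨s, c, hc, hsc⟩ := exists_conj_to_vv p _ hy1 hy2
  obtain ⟨α₂, hα₂⟩ : ∃ α₂ : MulAut (Matrix.ProjectiveSpecialLinearGroup (Fin 2) F),
      α₂ = MulAut.conj (pr F (uu s)) * α₁ := ⟨_, rfl⟩
  have h2u : α₂ (pr F (uu 1)) = pr F (uu 1) := by
    rw [hα₂, MulAut.mul_apply, h1, MulAut.conj_apply, ← map_inv, ← map_mul, ← map_mul, uu_inv,
      ← uu_add, ← uu_add]
    congr 2; ring
  have h2v : α₂ (pr F (vv 1)) = pr F (vv c) := by rw [hα₂, MulAut.mul_apply, hsc]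
  have L4 : ∀ b, ∃ b', α₂ (pr F (vv b)) = pr F (vv b') := by
    intro b
    apply cent_pr_vv c hc
    have hcm : pr F (vv b) * pr F (vv 1) = pr F (vv 1) * pr F (vv b) := by
      rw [← pr_vv_add, ← pr_vv_add, add_comm]
    calc α₂ (pr F (vv b)) * pr F (vv c) = α₂ (pr F (vv b)) * α₂ (pr F (vv 1)) := by rw [h2v]
      _ = α₂ (pr F (vv b) * pr F (vv 1)) := (map_mul α₂ _ _).symm
      _ = α₂ (pr F (vv 1) * pr F (vv b)) := by rw [hcm]
      _ = α₂ (pr F (vv 1)) * α₂ (pr F (vv b)) := map_mul α₂ _ _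
      _ = pr F (vv c) * α₂ (pr F (vv b)) := by rw [h2v]
  have L2' := L2 α₂ h2u
  choose φ hφ using L2'
  choose χ hχ using L4
  have hφ1 : φ 1 = 1 := pr_uu_inj (by rw [← hφ, h2u])
  obtain ⟨σ, hσ⟩ := aut_of_root_action α₂ φ χ hφ hχ hφ1
  refine ⟨(Matrix.SpecialLinearGroup.toGL (uu s) * A₁)⁻¹, σ, ?_⟩
  rw [← hσ, hα₂, hα₁, conj_eq_cG, map_inv, map_mul]
  group

end Cfsg.Agent.Lib.Helper5.AutPSL2
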