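import Mathlib
import Cfsg.Agent.Lib.Helper5.AutPSL2.Struct
import Cfsg.Prelude.Def_KGroupFacts

set_option autoImplicit false

namespace Cfsg.Agent.Lib.Helper5.AutPSL2

open Matrix Subgroup
open Cfsg.Agent.Lib.Helper5.PSL2Solv

variable {F : Type*} [Field F]

/-- A ring automorphism of a finite field is determined by its values on squares. -/
theorem ringAut_ext_sq [Finite F] (σ τ : RingAut F) (h : ∀ t : F, σ (t ^ 2) = τ (t ^ 2)) :
    σ = τ := by
  apply RingEquiv.ext
  intro x
  by_cases h2 : (2 : F) = 0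
  · have inj : Function.Injective (fun t : F => t ^ 2) := by
      intro u v huv
      have huv' : u ^ 2 = v ^ 2 := huv
      have : (u - v) ^ 2 = 0 := by linear_combination huv' - (u * v - v ^ 2) * h2
      have := pow_eq_zero_iff (two_ne_zero) |>.1 this
      linear_combination this
    obtain ⟨t, ht⟩ := (Finite.injective_iff_surjective.1 inj) x
    have ht' : t ^ 2 = x := ht
    rw [← ht', h]
  · have e : x = ((x + 1) / 2) ^ 2 - ((x - 1) / 2) ^ 2 := by field_simp; ring
    rw [e, map_sub, map_sub, h, h]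

/-- The field automorphism attached to an automorphism of `PSL₂(F)`. -/
theorem exists_sig [Finite F] (p : ℕ) [Fact p.Prime] [CharP F p]
    (α : MulAut (Matrix.ProjectiveSpecialLinearGroup (Fin 2) F)) :
    ∃ σ : RingAut F, ∀ x, trSq (α x) = σ (trSq x) := by
  obtain ⟨A, σ, rfl⟩ := aut_structure p α
  refine ⟨σ, fun x => ?_⟩
  rw [MulAut.mul_apply, trSq_cG, trSq_sigHat]

theorem sig_unique [Finite F] (α : MulAut (Matrix.ProjectiveSpecialLinearGroup (Fin 2) F))
    (σ τ : RingAut F) (hσ : ∀ x, trSq (α x) = σ (trSq x)) (hτ : ∀ x, trSq (α x) = τ (trSq x)) :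
    σ = τ := by
  apply ringAut_ext_sq
  intro t
  obtain ⟨x, hx⟩ := trSq_surj t
  rw [← hx, ← hσ, ← hτ]

/-- The homomorphism `Aut(PSL₂(F)) → Aut(F)`. -/
noncomputable def sig [Finite F] (p : ℕ) [Fact p.Prime] [CharP F p] :
    MulAut (Matrix.ProjectiveSpecialLinearGroup (Fin 2) F) →* RingAut F where
  toFun α := Classical.choose (exists_sig p α)
  map_one' := by
    apply sig_unique 1 _ _ (Classical.choose_spec (exists_sig p 1))
    intro x
    rfl
  map_mul' := by
    intro α β
    apply sig_unique (α * β) _ _ (Classical.choose_spec (exists_sig p (α * β)))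
    intro x
    rw [MulAut.mul_apply, Classical.choose_spec (exists_sig p α),
      Classical.choose_spec (exists_sig p β)]
    rfl

theorem sig_spec [Finite F] (p : ℕ) [Fact p.Prime] [CharP F p]
    (α : MulAut (Matrix.ProjectiveSpecialLinearGroup (Fin 2) F))
    (x : Matrix.ProjectiveSpecialLinearGroup (Fin 2) F) :
    trSq (α x) = sig p α (trSq x) :=
  Classical.choose_spec (exists_sig p α) x

theorem sig_eq [Finite F] (p : ℕ) [Fact p.Prime] [CharP F p]
    (α : MulAut (Matrix.ProjectiveSpecialLinearGroup (Fin 2) F)) (σ : RingAut F)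
    (hσ : ∀ x, trSq (α x) = σ (trSq x)) : sig p α = σ :=
  sig_unique α _ _ (sig_spec p α) hσ

theorem sig_cG [Finite F] (p : ℕ) [Fact p.Prime] [CharP F p] (A : GL (Fin 2) F) :
    sig p (cG F A) = 1 :=
  sig_eq p _ _ (fun x => by rw [trSq_cG]; rfl)

theorem sig_sigHat [Finite F] (p : ℕ) [Fact p.Prime] [CharP F p] (σ : RingAut F) :
    sig p (sigHat F σ) = σ :=
  sig_eq p _ _ (fun x => trSq_sigHat σ x)

theorem sig_surjective [Finite F] (p : ℕ) [Fact p.Prime] [CharP F p] :
    Function.Surjective (sig (F := F) p) := fun σ => ⟨_, sig_sigHat p σ⟩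

theorem sig_ker [Finite F] (p : ℕ) [Fact p.Prime] [CharP F p] :
    (sig (F := F) p).ker = (cG F).range := by
  ext α
  rw [MonoidHom.mem_ker, MonoidHom.mem_range]
  constructor
  · intro h
    obtain ⟨A, σ, rfl⟩ := aut_structure p α
    rw [map_mul, sig_cG, sig_sigHat, one_mul] at h
    exact ⟨A, by rw [h, map_one, mul_one]⟩
  · rintro ⟨A, rfl⟩
    exact sig_cG p A

theorem glConj_mul_eq (A : GL (Fin 2) F) (g : Matrix.SpecialLinearGroup (Fin 2) F) :
    ((glConj F A g : Matrix.SpecialLinearGroup (Fin 2) F) : Matrix (Fin 2) (Fin 2) F) *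
      (A : Matrix (Fin 2) (Fin 2) F) = (A : Matrix (Fin 2) (Fin 2) F) * g := by
  rw [glConj_coe, Matrix.mul_assoc, ← Units.val_mul, inv_mul_cancel]
  simp

theorem gl_det_ne_zero (A : GL (Fin 2) F) :
    (A : Matrix (Fin 2) (Fin 2) F) 0 0 * (A : Matrix (Fin 2) (Fin 2) F) 1 1 -
      (A : Matrix (Fin 2) (Fin 2) F) 0 1 * (A : Matrix (Fin 2) (Fin 2) F) 1 0 ≠ 0 := by
  have := Matrix.GeneralLinearGroup.det_ne_zero A
  rwa [Matrix.det_fin_two] at this

/-- If `cG A` fixes `pr (uu 1)`, then `A` is upper triangular with equal diagonal entries. -/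
theorem entries_of_fix_uu (A : GL (Fin 2) F) (h : cG F A (pr F (uu 1)) = pr F (uu 1)) :
    (A : Matrix (Fin 2) (Fin 2) F) 1 0 = 0 ∧
      (A : Matrix (Fin 2) (Fin 2) F) 0 0 = (A : Matrix (Fin 2) (Fin 2) F) 1 1 := by
  rw [cG_pr, pr_eq_iff] at h
  have hplus : ∀ (h : uu 1 = glConj F A (uu 1)),
      (A : Matrix (Fin 2) (Fin 2) F) 1 0 = 0 ∧
      (A : Matrix (Fin 2) (Fin 2) F) 0 0 = (A : Matrix (Fin 2) (Fin 2) F) 1 1 := by
    intro h
    have e := glConj_mul_eq A (uu 1)
    rw [← h] at e
    have e00 := congrFun (congrFun e 0) 0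
    have e01 := congrFun (congrFun e 0) 1
    simp only [Matrix.mul_apply, Fin.sum_univ_two, uu, mk2_00, mk2_01, mk2_10, mk2_11] at e00 e01
    constructor
    · linear_combination e00
    · linear_combination (-1 : F) * e01
  rcases h with h | h
  · exact hplus h
  · have h2 : (2 : F) = 0 := by
      have e := glConj_mul_eq A (uu 1)
      have h' : glConj F A (uu 1) = negOne F * uu 1 := by
        have h'' := congrArg (fun z => negOne F * z) h
        simp only [← mul_assoc, negOne_sq, one_mul] at h''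
        exact h''.symm
      rw [h', uu, negOne_mul] at e
      have e00 := congrFun (congrFun e 0) 0
      have e10 := congrFun (congrFun e 1) 0
      have e11 := congrFun (congrFun e 1) 1
      simp only [Matrix.mul_apply, Fin.sum_univ_two, mk2_00, mk2_01, mk2_10, mk2_11]
        at e00 e10 e11
      have hd := gl_det_ne_zero A
      have h4 : (4 : F) * ((A : Matrix (Fin 2) (Fin 2) F) 0 0 * (A : Matrix (Fin 2) (Fin 2) F) 1 1 -
          (A : Matrix (Fin 2) (Fin 2) F) 0 1 * (A : Matrix (Fin 2) (Fin 2) F) 1 0) = 0 := by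
        linear_combination (-2 * (A : Matrix (Fin 2) (Fin 2) F) 1 1) * e00 +
          (2 * (A : Matrix (Fin 2) (Fin 2) F) 0 1 + (A : Matrix (Fin 2) (Fin 2) F) 1 1) * e10
      have h4' : (4 : F) = 0 := (mul_eq_zero.1 h4).resolve_right hd
      have : (2 : F) * 2 = 0 := by linear_combination h4'
      exact mul_self_eq_zero.1 this
    rw [negOne_eq_one h2, one_mul] at h
    exact hplus h

theorem trace_glConj (A : GL (Fin 2) F) (g : Matrix.SpecialLinearGroup (Fin 2) F) :
    ((glConj F A g : Matrix.SpecialLinearGroup (Fin 2) F) : Matrix (Fin 2) (Fin 2) F) 0 0 +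
      ((glConj F A g : Matrix.SpecialLinearGroup (Fin 2) F) : Matrix (Fin 2) (Fin 2) F) 1 1 =
    (g : Matrix (Fin 2) (Fin 2) F) 0 0 + (g : Matrix (Fin 2) (Fin 2) F) 1 1 := by
  have h1 : Matrix.trace ((glConj F A g : Matrix.SpecialLinearGroup (Fin 2) F) :
      Matrix (Fin 2) (Fin 2) F) = Matrix.trace (g : Matrix (Fin 2) (Fin 2) F) := by
    rw [glConj_coe, Matrix.trace_mul_cycle, ← Units.val_mul, inv_mul_cancel]
    simp
  rw [Matrix.trace_fin_two, Matrix.trace_fin_two] at h1
  exact h1

/-- If `cG A` fixes `pr (vv 1)`, then `A` is lower triangular. -/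
theorem entries_of_fix_vv (A : GL (Fin 2) F) (h : cG F A (pr F (vv 1)) = pr F (vv 1)) :
    (A : Matrix (Fin 2) (Fin 2) F) 0 1 = 0 := by
  rw [cG_pr, pr_eq_iff] at h
  have hplus : ∀ (h : vv 1 = glConj F A (vv 1)), (A : Matrix (Fin 2) (Fin 2) F) 0 1 = 0 := by
    intro h
    have e := glConj_mul_eq A (vv 1)
    rw [← h] at e
    have e00 := congrFun (congrFun e 0) 0
    simp only [Matrix.mul_apply, Fin.sum_univ_two, vv, mk2_00, mk2_01, mk2_10] at e00
    linear_combination (-1 : F) * e00
  rcases h with h | h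
  · exact hplus h
  · have h2 : (2 : F) = 0 := by
      have h' : glConj F A (vv 1) = negOne F * vv 1 := by
        have h'' := congrArg (fun z => negOne F * z) h
        simp only [← mul_assoc, negOne_sq, one_mul] at h''
        exact h''.symm
      have e := trace_glConj A (vv 1)
      rw [h', vv, negOne_mul] at e
      simp only [mk2_00, mk2_11] at e
      have h4 : (2 : F) * 2 = 0 := by linear_combination (-1 : F) * e
      exact mul_self_eq_zero.1 h4
    rw [negOne_eq_one h2, one_mul] at h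
    exact hplus h

/-- Scalar matrices act trivially. -/
theorem cG_scalar (u : Fˣ) : cG F (Matrix.GeneralLinearGroup.scalar (Fin 2) u) = 1 := by
  apply MulEquiv.ext
  intro x
  obtain ⟨g, rfl⟩ := pr_surjective x
  rw [cG_pr, MulAut.one_apply]
  congr 1
  apply glConj_eq_of_mul_eq
  rw [Matrix.GeneralLinearGroup.coe_scalar]
  exact (Matrix.scalar_commute (u : F) (fun r => mul_comm _ _) _).eq

/-- The kernel of `cG` consists of scalar matrices; in particular the determinant is a square. -/
theorem det_sq_of_cG_eq_one (A : GL (Fin 2) F) (h : cG F A = 1) :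
    ∃ u : Fˣ, Matrix.GeneralLinearGroup.det A = u ^ 2 := by
  have hu := entries_of_fix_uu A (by rw [h, MulAut.one_apply])
  have hv := entries_of_fix_vv A (by rw [h, MulAut.one_apply])
  have hd := gl_det_ne_zero A
  rw [hu.1, hv, mul_zero, sub_zero, ← hu.2] at hd
  have h0 : (A : Matrix (Fin 2) (Fin 2) F) 0 0 ≠ 0 := fun h0 => hd (by rw [h0, mul_zero])
  refine ⟨Units.mk0 _ h0, ?_⟩
  apply Units.ext
  show (A : Matrix (Fin 2) (Fin 2) F).det = _
  rw [Matrix.det_fin_two, hu.1, hv, ← hu.2]
  simp only [Units.val_pow_eq_pow_val, Units.val_mk0]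
  ring

/-- `cG A` is inner iff `det A` is a square. -/
theorem cG_mem_inn_iff (A : GL (Fin 2) F) :
    cG F A ∈ Cfsg.Inn (Matrix.ProjectiveSpecialLinearGroup (Fin 2) F) ↔
      Matrix.GeneralLinearGroup.det A ∈ (powMonoidHom 2 : Fˣ →* Fˣ).range := by
  constructor
  · rintro ⟨x, hx⟩
    obtain ⟨g, rfl⟩ := pr_surjective x
    rw [conj_eq_cG] at hx
    have h1 : cG F (A * (Matrix.SpecialLinearGroup.toGL g)⁻¹) = 1 := by
      rw [map_mul, map_inv, ← hx, mul_inv_cancel]
    obtain ⟨u, hu⟩ := det_sq_of_cG_eq_one _ h1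
    rw [map_mul, map_inv, Matrix.SpecialLinearGroup.coeToGL_det, inv_one, mul_one] at hu
    exact ⟨u, hu.symm⟩
  · rintro ⟨u, hu⟩
    have hu' : u ^ 2 = Matrix.GeneralLinearGroup.det A := hu
    obtain ⟨B, hB⟩ : ∃ B : GL (Fin 2) F, B = A * (Matrix.GeneralLinearGroup.scalar (Fin 2) u)⁻¹ :=
      ⟨_, rfl⟩
    have hdet : Matrix.GeneralLinearGroup.det B = 1 := by
      rw [hB, map_mul, map_inv, Matrix.GeneralLinearGroup.det_scalar, Fintype.card_fin, ← hu',
        mul_inv_cancel]
    let g : Matrix.SpecialLinearGroup (Fin 2) F :=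
      ⟨(B : Matrix (Fin 2) (Fin 2) F), congrArg Units.val hdet⟩
    have hg : Matrix.SpecialLinearGroup.toGL g = B := Units.ext rfl
    have : cG F A = MulAut.conj (pr F g) := by
      rw [conj_eq_cG, hg, hB, map_mul, map_inv, cG_scalar, inv_one, mul_one]
    rw [this]
    exact ⟨pr F g, rfl⟩

/-- The composite `GL₂(F) → Aut(PSL₂(F)) → Out(PSL₂(F))`. -/
noncomputable def psi (F : Type*) [Field F] :
    GL (Fin 2) F →* Cfsg.Out (Matrix.ProjectiveSpecialLinearGroup (Fin 2) F) :=
  (QuotientGroup.mk' (Cfsg.Inn (Matrix.ProjectiveSpecialLinearGroup (Fin 2) F))).comp (cG F)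

theorem psi_ker : (psi F).ker =
    Subgroup.comap (Matrix.GeneralLinearGroup.det : GL (Fin 2) F →* Fˣ)
      (powMonoidHom 2 : Fˣ →* Fˣ).range := by
  ext A
  rw [MonoidHom.mem_ker, Subgroup.mem_comap, ← cG_mem_inn_iff, psi, MonoidHom.comp_apply,
    QuotientGroup.mk'_apply, QuotientGroup.eq_one_iff]

theorem card_psi_range [Finite F] : Nat.card (psi F).range = Nat.gcd (Nat.card F - 1) 2 := by
  rw [← Subgroup.index_ker, psi_ker,
    Subgroup.index_comap_of_surjective _ Matrix.GeneralLinearGroup.det_surjective,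
    IsCyclic.index_powMonoidHom_range, Nat.card_units]

theorem charP_of_card_pow [Finite F] (p f : ℕ) [hp : Fact p.Prime] (hF : Nat.card F = p ^ f) :
    CharP F p := by
  obtain ⟨p', hp'⟩ := CharP.exists F
  have hzero : ((p ^ f : ℕ) : F) = 0 := by
    rw [← hF]
    have := Fintype.ofFinite F
    rw [Nat.card_eq_fintype_card]
    exact Nat.cast_card_eq_zero F
  rw [Nat.cast_pow] at hzero
  have hp0 : ((p : ℕ) : F) = 0 := (pow_eq_zero_iff'.1 hzero).1
  have hdvd : p' ∣ p := (CharP.cast_eq_zero_iff F p' p).1 hp0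
  rcases (Nat.dvd_prime hp.1).1 hdvd with h | h
  · exfalso
    subst h
    exact CharP.char_ne_one F 1 rfl
  · subst h
    exact hp'

/-- The automorphism group of a field with `p ^ f` elements is cyclic of order `f`. -/
theorem ringAut_cyclic_card [Finite F] (p f : ℕ) [Fact p.Prime] [CharP F p]
    (hF : Nat.card F = p ^ f) : IsCyclic (RingAut F) ∧ Nat.card (RingAut F) = f := by
  let _ := ZMod.algebra F p
  let e : RingAut F ≃* (F ≃ₐ[ZMod p] F) :=
    { toFun := fun σ => AlgEquiv.ofRingEquiv (f := σ) (fun r =>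
        RingHom.congr_fun (Subsingleton.elim ((σ : F →+* F).comp (algebraMap (ZMod p) F))
          (algebraMap (ZMod p) F)) r)
      invFun := fun τ => τ.toRingEquiv
      left_inv := fun σ => by ext x; rfl
      right_inv := fun τ => by ext x; rfl
      map_mul' := fun σ τ => by ext x; rfl }
  have hcyc : IsCyclic (F ≃ₐ[ZMod p] F) := inferInstance
  have hcard : Nat.card (F ≃ₐ[ZMod p] F) = Module.finrank (ZMod p) F := by
    rw [← Nat.card_eq_of_bijective _
      (FiniteField.bijective_frobeniusAlgEquivOfAlgebraic_pow (ZMod p) F), Nat.card_fin]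
  have hrank : Module.finrank (ZMod p) F = f := by
    have := Fintype.ofFinite F
    have h1 := Module.card_eq_pow_finrank (K := ZMod p) (V := F)
    rw [ZMod.card, ← Nat.card_eq_fintype_card, hF] at h1
    exact (Nat.pow_right_injective (Fact.out : p.Prime).two_le h1).symm
  constructor
  · exact isCyclic_of_surjective e.symm e.symm.surjective
  · rw [Nat.card_congr e.toEquiv, hcard, hrank]

theorem exists_mulEquiv_zmod (G : Type*) [Group G] [IsCyclic G] (n : ℕ) (h : Nat.card G = n) :
    Nonempty (G ≃* Multiplicative (ZMod n)) := by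
  subst h
  exact ⟨(zmodCyclicMulEquiv ‹IsCyclic G›).symm⟩

theorem inn_le_ker_sig [Finite F] (p : ℕ) [Fact p.Prime] [CharP F p] :
    Cfsg.Inn (Matrix.ProjectiveSpecialLinearGroup (Fin 2) F) ≤ (sig (F := F) p).ker := by
  rintro _ ⟨x, rfl⟩
  obtain ⟨g, rfl⟩ := pr_surjective x
  rw [sig_ker, conj_eq_cG]
  exact ⟨_, rfl⟩

/-- The structure of `Out(PSL₂(F))`. -/
theorem out_psl_two [Finite F] (p f : ℕ) [Fact p.Prime] (hF : Nat.card F = p ^ f) :
    ∃ φ : Cfsg.Out (Matrix.ProjectiveSpecialLinearGroup (Fin 2) F) →* Multiplicative (ZMod f),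
      Function.Surjective φ ∧ IsCyclic φ.ker ∧ Nat.card φ.ker = Nat.gcd 2 (p ^ f - 1) := by
  have := charP_of_card_pow p f hF
  obtain ⟨hcyc, hcard⟩ := ringAut_cyclic_card (F := F) p f hF
  obtain ⟨e⟩ := exists_mulEquiv_zmod (RingAut F) f hcard
  let L := QuotientGroup.lift (Cfsg.Inn (Matrix.ProjectiveSpecialLinearGroup (Fin 2) F))
    (sig (F := F) p) (inn_le_ker_sig p)
  have hLsurj : Function.Surjective L :=
    QuotientGroup.lift_surjective_of_surjective _ _ (sig_surjective p) _
  have hker : (e.toMonoidHom.comp L).ker = (psi F).range := by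
    have h1 : (e.toMonoidHom.comp L).ker = L.ker := by
      ext x
      rw [MonoidHom.mem_ker, MonoidHom.mem_ker, MonoidHom.comp_apply]
      exact e.map_eq_one_iff
    rw [h1, QuotientGroup.ker_lift, sig_ker, MonoidHom.map_range]
    rfl
  have hcardker : Nat.card (psi F).range = Nat.gcd 2 (p ^ f - 1) := by
    rw [card_psi_range, hF, Nat.gcd_comm]
  refine ⟨e.toMonoidHom.comp L, ?_, ?_, ?_⟩
  · exact e.surjective.comp hLsurj
  · rw [hker]
    have hdvd : Nat.gcd 2 (p ^ f - 1) ∣ 2 := Nat.gcd_dvd_left _ _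
    rcases (Nat.dvd_prime Nat.prime_two).1 hdvd with h | h
    · rw [h] at hcardker
      have : Subsingleton (psi F).range := (Nat.card_eq_one_iff_unique.1 hcardker).1
      exact isCyclic_of_subsingleton
    · rw [h] at hcardker
      have : Fact (Nat.Prime 2) := ⟨Nat.prime_two⟩
      exact isCyclic_of_prime_card hcardker
  · rw [hker, hcardker]

end Cfsg.Agent.Lib.Helper5.AutPSL2
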